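import Cfsg.Agent.CriticalFive.Order

/-!
# The affine group over the field with four elements
-/

set_option autoImplicit false

namespace CfsgLib.CriticalFive

open Subgroup
open scoped MatrixGroups

/-- The field with four elements, `a + b ω` with `ω² = ω + 1`. -/
structure F4 where
  re : Bool
  im : Bool
  deriving DecidableEq, Fintype

namespace F4

instance instAddF4 : Add F4 := ⟨fun a b => ⟨xor a.re b.re, xor a.im b.im⟩⟩
instance instMulF4 : Mul F4 :=
  ⟨fun a b => ⟨xor (a.re && b.re) (a.im && b.im),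
    xor (xor (a.re && b.im) (a.im && b.re)) (a.im && b.im)⟩⟩
instance instNegF4 : Neg F4 := ⟨id⟩
instance instZeroF4 : Zero F4 := ⟨⟨false, false⟩⟩
instance instOneF4 : One F4 := ⟨⟨true, false⟩⟩
instance instInvF4 : Inv F4 := ⟨fun a => a * a⟩

instance instCommRingF4 : CommRing F4 :=
  CommRing.ofMinimalAxioms (by decide) (by decide) (by decide) (by decide) (by decide) (by decide)
    (by decide)

instance instFieldF4 : Field F4 where
  inv a := a * a
  exists_pair_ne := ⟨0, 1, by decide⟩
  mul_inv_cancel := by decide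
  inv_zero := by decide
  nnqsmul := _
  nnqsmul_def := fun _ _ => rfl
  qsmul := _
  qsmul_def := fun _ _ => rfl

theorem card_eq : Fintype.card F4 = 4 := by decide

end F4

/-- The matrices with last row `(0, 0, 1)`. -/
abbrev affSet : Set SL(3, F4) :=
  {M | (M : Matrix (Fin 3) (Fin 3) F4) 2 0 = 0 ∧ (M : Matrix (Fin 3) (Fin 3) F4) 2 1 = 0 ∧
    (M : Matrix (Fin 3) (Fin 3) F4) 2 2 = 1}

theorem mul_row {M N : SL(3, F4)} (hM : M ∈ affSet) (j : Fin 3) :
    ((M * N : SL(3, F4)) : Matrix (Fin 3) (Fin 3) F4) 2 j = (N : Matrix (Fin 3) (Fin 3) F4) 2 j := by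
  obtain ⟨h0, h1, h2⟩ := hM
  rw [Matrix.SpecialLinearGroup.coe_mul, Matrix.mul_apply, Fin.sum_univ_three, h0, h1, h2]
  simp

/-- The affine group. -/
def affGroup : Subgroup SL(3, F4) where
  carrier := affSet
  one_mem' := by
    refine ⟨?_, ?_, ?_⟩ <;> simp [Matrix.SpecialLinearGroup.coe_one]
  mul_mem' {M N} hM hN := by
    simp only [affSet, Set.mem_ofPred_eq, mul_row hM]
    exact hN
  inv_mem' {M} hM := by
    have h : ∀ j, ((M⁻¹ : SL(3, F4)) : Matrix (Fin 3) (Fin 3) F4) 2 j =
        ((1 : SL(3, F4)) : Matrix (Fin 3) (Fin 3) F4) 2 j := fun j => by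
      rw [← mul_row hM j (N := M⁻¹), mul_inv_cancel]
    simp only [affSet, Set.mem_ofPred_eq, h]
    simp [Matrix.SpecialLinearGroup.coe_one]

theorem closure_affSet : closure affSet = affGroup :=
  le_antisymm ((closure_le _).2 fun _ h => h) fun _ h => subset_closure h

abbrev Entries : Type :=
  {p : (F4 × F4) × (F4 × F4) × (F4 × F4) //
    p.1.1 * p.2.1.2 + p.1.2 * p.2.1.1 = 1}

set_option maxRecDepth 100000 in
theorem card_entries : Fintype.card Entries = 960 := by decide +kernel

theorem card_closure_affSet_le : Nat.card (closure affSet) ≤ 960 := by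
  rw [closure_affSet, ← card_entries, ← Nat.card_eq_fintype_card]
  refine Nat.card_le_card_of_injective (fun M =>
    (⟨((M.1.1 0 0, M.1.1 0 1), (M.1.1 1 0, M.1.1 1 1), (M.1.1 0 2, M.1.1 1 2)), ?_⟩ : Entries)) ?_
  · have hd := M.1.2
    obtain ⟨h0, h1, h2⟩ := M.2
    rw [Matrix.det_fin_three, h0, h1, h2] at hd
    simp only [mul_zero, mul_one, sub_zero, add_zero] at hd
    rw [sub_eq_add_neg] at hd
    exact hd
  · rintro ⟨M, a0, a1, a2⟩ ⟨N, b0, b1, b2⟩ e
    simp only [Subtype.mk.injEq, Prod.mk.injEq] at e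
    obtain ⟨⟨e00, e01⟩, ⟨e10, e11⟩, e02, e12⟩ := e
    refine Subtype.ext (Subtype.ext (Matrix.ext fun i j => ?_))
    fin_cases i <;> fin_cases j
    exacts [e00, e01, e02, e10, e11, e12, a0.trans b0.symm, a1.trans b1.symm, a2.trans b2.symm]

/-- The image of `x`. -/
def xMat : SL(3, F4) :=
  ⟨!![⟨false, true⟩, 0, 0; 0, ⟨true, true⟩, 0; 0, 0, 1], by rw [Matrix.det_fin_three]; decide +kernel⟩

/-- The image of `y`. -/
def yMat : SL(3, F4) :=
  ⟨!![1, ⟨true, true⟩, 0; ⟨true, true⟩, ⟨true, true⟩, 0; 0, 0, 1],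
    by rw [Matrix.det_fin_three]; decide +kernel⟩

/-- The image of `v`. -/
def vMat : SL(3, F4) :=
  ⟨!![1, 0, 1; 0, 1, 0; 0, 0, 1], by rw [Matrix.det_fin_three]; decide +kernel⟩

set_option maxRecDepth 100000 in
theorem rels_mat : Rels xMat yMat vMat := by
  constructor <;> (try unfold Commute SemiconjBy) <;> decide +kernel

theorem mem_affSet : xMat ∈ affSet ∧ yMat ∈ affSet ∧ vMat ∈ affSet := by decide +kernel

theorem closure_mat : closure {xMat, yMat, vMat} = closure affSet := by
  refine eq_of_le_of_card_ge ((closure_le _).2 ?_) ?_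
  · rintro g (rfl | rfl | rfl)
    exacts [subset_closure mem_affSet.1, subset_closure mem_affSet.2.1, subset_closure mem_affSet.2.2]
  · rw [rels_mat.card_closure (by decide +kernel) (by decide +kernel)]
    exact card_closure_affSet_le

theorem card_closure_affSet : Nat.card (closure affSet) = 960 := by
  rw [← closure_mat, rels_mat.card_closure (by decide +kernel) (by decide +kernel)]

end CfsgLib.CriticalFive
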