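import Cfsg.Agent.CriticalFive.Target
import Cfsg.Agent.Spectrum.AltFive
import Cfsg.Prelude.Def_Transfer

/-!
# Extensions of an elementary abelian 2-group by `A₅` with element orders `1, …, 5`
-/

set_option autoImplicit false
set_option linter.style.haveILetI false

namespace CfsgLib.CriticalFive

open Subgroup

local notation "A₅" => alternatingGroup (Fin 5)
local notation "X₀" => TwoThreeFive.xAlt
local notation "Y₀" => TwoThreeFive.yAlt

theorem alt_relations :
    (X₀ : A₅) ^ 3 = 1 ∧ (Y₀ : A₅) ^ 5 = 1 ∧ ((X₀ : A₅) * Y₀) ^ 2 = 1 ∧ (X₀ : A₅) ≠ 1 ∧ (Y₀ : A₅) ≠ 1 ∧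
      (X₀ : A₅) * Y₀ ≠ 1 ∧
      (Y₀ : A₅) = wu X₀ Y₀ * X₀ * wu X₀ Y₀ * ww X₀ Y₀ * wu X₀ Y₀ ∧ ww (X₀ : A₅) Y₀ * ww X₀ Y₀ = 1 := by
  decide +kernel

theorem alt_relations' :
    wu (X₀ : A₅) Y₀ * wu X₀ Y₀ = 1 ∧
      wu (X₀ : A₅) Y₀ * (X₀ * wu X₀ Y₀ * X₀ * X₀) = X₀ * wu X₀ Y₀ * X₀ * X₀ * wu X₀ Y₀ ∧
      X₀ * X₀ * wu (X₀ : A₅) Y₀ * X₀ = wu X₀ Y₀ * (X₀ * wu X₀ Y₀ * X₀ * X₀) ∧
      X₀ * ww (X₀ : A₅) Y₀ = ww X₀ Y₀ * X₀ * X₀ ∧
      X₀ * X₀ * ww (X₀ : A₅) Y₀ = ww X₀ Y₀ * X₀ ∧
      wu (X₀ : A₅) Y₀ * ww X₀ Y₀ ≠ 1 ∧ (wu (X₀ : A₅) Y₀ * ww X₀ Y₀) ^ 3 = 1 := by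
  decide +kernel

theorem alt_relations'' :
    (wc (X₀ : A₅) Y₀) ≠ 1 ∧ wc (X₀ : A₅) Y₀ ^ 3 = 1 ∧
      (X₀ * Y₀) * wc (X₀ : A₅) Y₀ * (X₀ * Y₀)⁻¹ = (wc X₀ Y₀)⁻¹ := by
  decide +kernel

theorem alt_closure : closure {(X₀ : A₅), Y₀} = ⊤ := by
  set S := closure {(X₀ : A₅), Y₀}
  have h60 : Nat.card A₅ = 60 := by rw [nat_card_alternatingGroup]; simp [Nat.factorial]
  have hx : (X₀ : A₅) ∈ S := subset_closure (by simp)
  have hy : (Y₀ : A₅) ∈ S := subset_closure (by simp)
  obtain ⟨h3, h5, h2, n3, n5, n2, -⟩ := alt_relations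
  haveI : Fact (Nat.Prime 5) := ⟨by norm_num⟩
  have d2 : 2 ∣ Nat.card S :=
    (dvd_of_eq (orderOf_eq_prime h2 n2).symm).trans (S.orderOf_dvd_natCard (mul_mem hx hy))
  have d3 : 3 ∣ Nat.card S := (dvd_of_eq (orderOf_eq_prime h3 n3).symm).trans (S.orderOf_dvd_natCard hx)
  have d5 : 5 ∣ Nat.card S := (dvd_of_eq (orderOf_eq_prime h5 n5).symm).trans (S.orderOf_dvd_natCard hy)
  obtain ⟨c, hc⟩ : 30 ∣ Nat.card S := by omega
  have hm := S.card_mul_index
  rw [h60, hc, mul_assoc] at hm
  have hi : S.index ∣ 2 := ⟨c, by rw [mul_comm]; omega⟩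
  rcases (Nat.dvd_prime Nat.prime_two).mp hi with h | h
  · exact Subgroup.index_eq_one.mp h
  · rcases (Subgroup.normal_of_index_eq_two h).eq_bot_or_eq_top with hb | ht
    · rw [hb, Subgroup.index_bot, h60] at h; omega
    · exact ht

variable {G : Type*} [Group G] [Finite G] {N : Subgroup G} [N.Normal]

/-- The main step. -/
theorem exists_rels (hsp : Set.range (orderOf : G → ℕ) = ({1, 2, 3, 4, 5} : Set ℕ))
    (hcrit : ∀ H : Subgroup G, H ≠ ⊤ → Set.range (orderOf : H → ℕ) ≠ ({1, 2, 3, 4, 5} : Set ℕ))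
    (hN : Cfsg.IsElementaryAbelian 2 N) (e : G ⧸ N ≃* A₅) :
    ∃ x y v : G, Rels x y v ∧ closure {x, y, v} = ⊤ ∧ Nat.card G = 960 := by
  set π : G →* A₅ := e.toMonoidHom.comp (QuotientGroup.mk' N)
  have hker : ∀ g, π g = 1 ↔ g ∈ N := fun g => by simp [π]
  have hsurj : Function.Surjective π := e.surjective.comp (QuotientGroup.mk'_surjective N)
  have hord : ∀ g : G, orderOf g ∈ ({1, 2, 3, 4, 5} : Set ℕ) := fun g => hsp ▸ Set.mem_range_self g
  have hsq : ∀ n ∈ N, n * n = 1 := fun n hn => by rw [← pow_two]; exact hN.2 n hn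
  have hinv : ∀ n ∈ N, n⁻¹ = n := fun n hn => inv_eq_of_mul_eq_one_right (hsq n hn)
  have hcomm : ∀ a ∈ N, ∀ b ∈ N, a * b = b * a := fun a ha b hb => comm_of_mem hN.1 ha hb
  have hconj : ∀ (g : G), ∀ n ∈ N, g * n * g⁻¹ ∈ N := fun g n hn =>
    Subgroup.Normal.conj_mem inferInstance n hn g
  have hlift : ∀ (g : G) (k : ℕ), orderOf (π g) = k → k = 3 ∨ k = 5 → orderOf g = k := by
    intro g k hk h35
    have hd : k ∣ orderOf g := hk ▸ orderOf_map_dvd π g
    have := hord g
    simp only [Set.mem_insert_iff, Set.mem_singleton_iff] at this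
    rcases h35 with rfl | rfl <;> omega
  have hfix : ∀ g : G, orderOf g = 3 ∨ orderOf g = 5 → ∀ n ∈ N, g * n = n * g → n = 1 := by
    intro g hg n hn hc
    by_contra h1
    have hn2 : orderOf n = 2 := orderOf_eq_prime (hN.2 n hn) h1
    have := hord (g * n)
    rw [(show Commute g n from hc).orderOf_mul_eq_mul_orderOf_of_coprime (by
      rcases hg with h | h <;> rw [h, hn2] <;> decide), hn2] at this
    rcases hg with h | h <;> rw [h] at this <;> simp at this
  -- the relation of an element of order three on `N`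
  have hthree : ∀ g : G, orderOf g = 3 → ∀ n ∈ N,
      n * (g * n * g⁻¹) * (g⁻¹ * n * g) = 1 := by
    intro g hg n hn
    have h3 : g * g = g⁻¹ := eq_inv_of_mul_eq_one_left (by
      rw [← pow_three', ← hg, pow_orderOf_eq_one])
    set a := g * n * g⁻¹
    set b := g⁻¹ * n * g
    have ha : a ∈ N := hconj g n hn
    have hb : b ∈ N := by simpa [b] using hconj g⁻¹ n hn
    refine hfix g (Or.inl hg) _ (mul_mem (mul_mem hn ha) hb) ?_
    have e1 : g * (n * a * b) = a * b * n * g := by
      have ha' : g * a * g⁻¹ = b := by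
        calc g * a * g⁻¹ = (g * g) * n * (g * g)⁻¹ := by simp only [a]; group
          _ = b := by rw [h3]; simp [b]
      calc g * (n * a * b) = a * (g * a * g⁻¹) * (g * b * g⁻¹) * g := by
            simp only [a]; group
        _ = a * b * n * g := by rw [ha']; simp only [b]; group
    rw [e1, mul_assoc n a b, hcomm _ (mul_mem ha hb) _ hn]
  obtain ⟨ax3, ay5, axy, nx, ny, nxy, agen, aw⟩ := alt_relations
  obtain ⟨au, aW, au3, axw, axxw, nuw, auw⟩ := alt_relations'
  obtain ⟨nc, ac3, acinv⟩ := alt_relations''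
  have ord3 : ∀ a : A₅, a ≠ 1 → a ^ 3 = 1 → orderOf a = 3 := fun a h1 h => orderOf_eq_prime h h1
  -- lifts of `x`, an involution over `x y`, and `y`
  obtain ⟨x, hx⟩ := hsurj X₀
  obtain ⟨z, hz, hz2⟩ : ∃ z : G, π z = X₀ * Y₀ ∧ z * z = 1 := by
    obtain ⟨c, hc⟩ := hsurj (wc X₀ Y₀)
    obtain ⟨z, hz⟩ := hsurj (X₀ * Y₀)
    have hc3 : orderOf c = 3 := hlift c 3 (hc ▸ ord3 _ nc ac3) (Or.inl rfl)
    have hd : c * (z * c * z⁻¹) ∈ N := by
      rw [← hker, map_mul, map_mul, map_mul, map_inv, hz, hc, acinv, mul_inv_cancel]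
    obtain ⟨n, hn⟩ := (Finite.injective_iff_surjective.1 (show Function.Injective
        fun n : N => (⟨c * n * c⁻¹ * (n : G)⁻¹, mul_mem (hconj c n n.2) (inv_mem n.2)⟩ : N) from by
      intro n m h
      have h' : c * n * c⁻¹ * (n : G)⁻¹ = c * m * c⁻¹ * (m : G)⁻¹ := congrArg Subtype.val h
      rw [hinv n n.2, hinv m m.2] at h'
      refine Subtype.ext (eq_of_mul_inv_eq_one ?_)
      rw [hinv m m.2]
      refine hfix c (Or.inl hc3) _ (mul_mem n.2 m.2) ?_
      have h2 : (c * n * c⁻¹) * (c * m * c⁻¹) = (n : G) * m := by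
        have hA := hconj c n n.2
        have hB := hconj c m m.2
        calc _ = (c * n * c⁻¹) * n * n * (c * m * c⁻¹) := by rw [mul_assoc _ (n : G) n, hsq n n.2, mul_one]
          _ = (c * m * c⁻¹) * m * n * (c * m * c⁻¹) := by rw [h']
          _ = m * n * ((c * m * c⁻¹) * (c * m * c⁻¹)) := by
            rw [mul_assoc (c * m * c⁻¹) (m : G) n, hcomm _ hB _ (mul_mem m.2 n.2)]
            simp only [mul_assoc]
          _ = n * m := by rw [hsq _ hB, mul_one, hcomm _ m.2 _ n.2]
      calc c * (n * m) = (c * n * c⁻¹) * (c * m * c⁻¹) * c := by group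
        _ = n * m * c := by rw [h2])) ⟨c * (z * c * z⁻¹), hd⟩
    have hn' : c * n * c⁻¹ * (n : G)⁻¹ = c * (z * c * z⁻¹) := congrArg Subtype.val hn
    refine ⟨(n : G)⁻¹ * z, by rw [map_mul, map_inv, (hker n).2 n.2, hz]; simp, ?_⟩
    set z' := (n : G)⁻¹ * z
    have hinvz : z' * c * z'⁻¹ = c⁻¹ := by
      calc z' * c * z'⁻¹ = (n : G)⁻¹ * (c⁻¹ * (c * (z * c * z⁻¹))) * n := by simp only [z']; group
        _ = (n : G)⁻¹ * (c⁻¹ * (c * n * c⁻¹ * (n : G)⁻¹)) * n := by rw [hn']
        _ = c⁻¹ := by group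
    refine hfix c (Or.inl hc3) _ ?_ ?_
    · rw [← hker, map_mul]
      simp only [z', map_mul, map_inv, (hker n).2 n.2, hz, inv_one, one_mul]
      rw [← pow_two]; exact axy
    · have h2 : z' * z' * c * (z' * z')⁻¹ = c := by
        calc z' * z' * c * (z' * z')⁻¹ = z' * (z' * c * z'⁻¹) * z'⁻¹ := by group
          _ = z' * c⁻¹ * z'⁻¹ := by rw [hinvz]
          _ = (z' * c * z'⁻¹)⁻¹ := by group
          _ = c := by rw [hinvz, inv_inv]
      exact (mul_inv_eq_iff_eq_mul.1 h2).symm
  set y := x⁻¹ * z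
  have hy : π y = Y₀ := by rw [map_mul, map_inv, hx, hz]; group
  have hx3 : orderOf x = 3 := hlift x 3 (hx ▸ ord3 _ nx ax3) (Or.inl rfl)
  have hy5 : orderOf y = 5 := by
    haveI : Fact (Nat.Prime 5) := ⟨by norm_num⟩
    exact hlift y 5 (hy ▸ orderOf_eq_prime ay5 ny) (Or.inr rfl)
  have px : x ^ 3 = 1 := hx3 ▸ pow_orderOf_eq_one x
  have py : y ^ 5 = 1 := hy5 ▸ pow_orderOf_eq_one y
  have pxy : (x * y) ^ 2 = 1 := by rw [show x * y = z by simp [y], pow_two, hz2]
  set K := closure {x, y}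
  have hxK : x ∈ K := subset_closure (by simp)
  have hyK : y ∈ K := subset_closure (by simp)
  have hKcard : Nat.card K ≤ 60 := by
    refine (TwoThreeFive.finite_card_le (G := K) ⟨x, hxK⟩ ⟨y, hyK⟩ (Subtype.ext px) (Subtype.ext py)
      (Subtype.ext pxy) ?_).2
    refine eq_top_iff.2 ((Subgroup.closure_closure_coe_preimage (k := ({x, y} : Set G))).ge.trans
      (closure_mono ?_))
    rintro ⟨g, hg⟩ hg'
    simp only [Set.mem_preimage, Set.mem_insert_iff, Set.mem_singleton_iff] at hg' ⊢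
    rcases hg' with e | e
    exacts [Or.inl (Subtype.ext e), Or.inr (Subtype.ext e)]
  have hKs : Function.Surjective (π.comp K.subtype) := by
    rw [← MonoidHom.range_eq_top, MonoidHom.range_comp, range_subtype, MonoidHom.map_closure,
      Set.image_insert_eq, Set.image_singleton, hx, hy, alt_closure]
  have hKi : ∀ a ∈ K, ∀ b ∈ K, π a = π b → a = b := by
    intro a ha b hb h
    have h60 : Nat.card K ≤ Nat.card A₅ := by
      rw [nat_card_alternatingGroup]; simpa [Nat.factorial] using hKcard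
    have := ((Nat.bijective_iff_surjective_and_card (π.comp K.subtype)).2
      ⟨hKs, le_antisymm h60 (Nat.card_le_card_of_surjective _ hKs)⟩).1
      (a₁ := ⟨a, ha⟩) (a₂ := ⟨b, hb⟩) h
    exact congrArg Subtype.val this
  set u := wu x y
  set w := ww x y
  have hu : u ∈ K := by
    simp only [u, wu]
    repeat' first | exact hxK | exact hyK | refine mul_mem ?_ ?_
  have hw : w ∈ K := by
    simp only [w, ww]
    repeat' first | exact hxK | exact hyK | refine mul_mem ?_ ?_
  have hπu : π u = wu X₀ Y₀ := by simp only [u, wu, map_mul, hx, hy]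
  have hπw : π w = ww X₀ Y₀ := by simp only [w, ww, map_mul, hx, hy]
  have k1 : u * u = 1 := hKi _ (mul_mem hu hu) _ K.one_mem (by rw [map_mul, hπu, map_one, au])
  have k2 : w * w = 1 := hKi _ (mul_mem hw hw) _ K.one_mem (by rw [map_mul, hπw, map_one, aw])
  set u₁ := x * u * x * x
  have hu₁ : u₁ ∈ K := mul_mem (mul_mem (mul_mem hxK hu) hxK) hxK
  have k3 : u * u₁ = u₁ * u := hKi _ (mul_mem hu hu₁) _ (mul_mem hu₁ hu)
    (by simp only [u₁, map_mul, hπu, hx]; exact aW)
  have k4 : x * x * u * x = u * u₁ := hKi _ (mul_mem (mul_mem (mul_mem hxK hxK) hu) hxK) _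
    (mul_mem hu hu₁) (by simp only [u₁, map_mul, hπu, hx]; exact au3)
  have k5 : x * w = w * x * x := hKi _ (mul_mem hxK hw) _ (mul_mem (mul_mem hw hxK) hxK)
    (by simp only [map_mul, hπw, hx]; exact axw)
  have k6 : x * x * w = w * x := hKi _ (mul_mem (mul_mem hxK hxK) hw) _ (mul_mem hw hxK)
    (by simp only [map_mul, hπw, hx]; exact axxw)
  have hgen : y = u * x * u * w * u := hKi _ hyK _
    (mul_mem (mul_mem (mul_mem (mul_mem hu hxK) hu) hw) hu)
    (by simp only [map_mul, hπu, hπw, hx, hy]; exact agen)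
  have huw : orderOf (u * w) = 3 :=
    hlift _ 3 (by rw [map_mul, hπu, hπw]; exact ord3 _ nuw auw) (Or.inl rfl)
  have hxxx : x * x * x = 1 := by rw [← pow_three']; exact px
  have hxinv : x⁻¹ = x * x := (eq_inv_of_mul_eq_one_left hxxx).symm
  -- a fixed point of the four group
  have hNne : N ≠ ⊥ := by
    intro h
    obtain ⟨g, hg⟩ : (4 : ℕ) ∈ Set.range (orderOf : G → ℕ) := hsp ▸ by simp
    have hπ : Function.Injective π := by
      rw [← MonoidHom.ker_eq_bot_iff, eq_bot_iff]
      exact fun a ha => h ▸ (hker a).1 ha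
    have := Spectrum.altFive_orderOf_mem (π g)
    rw [orderOf_injective π hπ g, hg] at this
    simp at this
  have hsym : ∀ (g n : G), g * g = 1 → g * n * g = n → g * n = n * g := fun g n h1 h2 => by
    calc g * n = g * n * (g * g) := by rw [h1, mul_one]
      _ = g * n * g * g := (mul_assoc _ _ _).symm
      _ = n * g := by rw [h2]
  have hstep : ∀ (g : G), g * g = 1 → ∀ n ∈ N, n ≠ 1 → ∃ m ∈ N, m ≠ 1 ∧ g * m = m * g ∧
      ∀ k : G, k * n = n * k → k * g = g * k → k * m = m * k := by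
    intro g hg n hn hn1
    have hgn : g * n * g ∈ N := by simpa [inv_eq_of_mul_eq_one_right hg] using hconj g n hn
    by_cases hc : g * n * g = n
    · exact ⟨n, hn, hn1, hsym g n hg hc, fun k h _ => h⟩
    refine ⟨n * (g * n * g), mul_mem hn hgn, fun e => hc ?_, hsym g _ hg ?_, fun k h h' => ?_⟩
    · rw [eq_inv_of_mul_eq_one_right e, hinv n hn]
    · calc g * (n * (g * n * g)) * g = g * n * g * (n * (g * g)) := by simp only [mul_assoc]
        _ = n * (g * n * g) := by rw [hg, mul_one, hcomm _ hgn _ hn]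
    · have h1 : Commute k n := h
      have h2 : Commute k g := h'
      exact (h1.mul_right ((h2.mul_right h1).mul_right h2)).eq
  obtain ⟨n, hn, hn1⟩ : ∃ n ∈ N, n ≠ 1 := (bot_or_exists_ne_one N).resolve_left hNne
  obtain ⟨m, hm, hm1, hum, -⟩ := hstep u k1 n hn hn1
  obtain ⟨v, hv, hv1, hu1v, hkeep⟩ := hstep u₁ (by
    calc u₁ * u₁ = x * u * (x * x * x) * u * (x * x) := by simp only [u₁, mul_assoc]
      _ = x * (u * u) * (x * x) := by rw [hxxx]; simp only [mul_one, mul_assoc]
      _ = 1 := by rw [k1, mul_one, ← mul_assoc, hxxx]) m hm hm1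
  have huv : u * v = v * u := hkeep u hum k3
  have hn₁ : n₁ x v ∈ N := by
    have := hconj x v hv
    rwa [hxinv, ← mul_assoc] at this
  have hwinv : w⁻¹ = w := inv_eq_of_mul_eq_one_right k2
  have hwc : ∀ a ∈ N, w * a * w ∈ N := fun a ha => by simpa [hwinv] using hconj w a ha
  have hn₂ : n₂ x y v ∈ N := hwc v hv
  have hn₃ : n₃ x y v ∈ N := hwc _ hn₁
  have hx1 : x * n₁ x v = v * n₁ x v * x := by
    have h := hthree x hx3 v hv
    rw [hxinv] at h
    have h' : x * x * v * x = v * n₁ x v := by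
      rw [← hinv _ (mul_mem hv hn₁)]
      refine eq_inv_of_mul_eq_one_right ?_
      simpa [n₁, mul_assoc] using h
    calc x * n₁ x v = x * x * v * x * x := by simp only [n₁, mul_assoc]
      _ = _ := by rw [h']
  have huw3 : ∀ s ∈ N, u * s = s * u → u * (w * s * w) = s * (w * s * w) * u := by
    intro s hs hus
    have h := hthree (u * w) huw s hs
    have hui : u⁻¹ = u := inv_eq_of_mul_eq_one_right k1
    rw [mul_inv_rev, hui, hwinv] at h
    have hA : w * u * s * (u * w) = w * s * w := by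
      calc w * u * s * (u * w) = w * (u * s) * (u * w) := by simp only [mul_assoc]
        _ = w * s * (u * u) * w := by rw [hus]; simp only [mul_assoc]
        _ = w * s * w := by rw [k1, mul_one]
    rw [hA] at h
    have hB : u * (w * s * w) * u ∈ N := by simpa [hui] using hconj u _ (hwc s hs)
    have hB' : u * (w * s * w) * u = s * (w * s * w) := by
      have e' : u * w * s * (w * u) = u * (w * s * w) * u := by simp only [mul_assoc]
      rw [e'] at h
      rw [mul_assoc, hcomm _ hB _ (hwc s hs), ← mul_assoc] at h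
      rw [← hinv _ (mul_mem hs (hwc s hs))]
      exact eq_inv_of_mul_eq_one_right h
    calc u * (w * s * w) = u * (w * s * w) * (u * u) := by rw [k1, mul_one]
      _ = u * (w * s * w) * u * u := (mul_assoc _ _ _).symm
      _ = _ := by rw [hB']
  have hu1 : u * n₁ x v = n₁ x v * u := by
    have hc : x * x * u * x * v = v * (x * x * u * x) := by
      rw [k4]
      exact ((show Commute u v from huv).mul_left (show Commute u₁ v from hu1v)).eq
    calc u * n₁ x v = (x * x * x) * (u * n₁ x v) := by rw [hxxx, one_mul]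
      _ = x * (x * x * u * x * v) * (x * x) := by simp only [n₁, mul_assoc]
      _ = x * (v * (x * x * u * x)) * (x * x) := by rw [hc]
      _ = x * v * x * x * u * (x * x * x) := by simp only [mul_assoc]
      _ = n₁ x v * u := by rw [hxxx, mul_one]
  have hR : Rels x y v :=
    { hx := px
      hy := py
      hxy := pxy
      hgen := hgen
      hw := k2
      sq := hsq v hv
      c01 := hcomm _ hv _ hn₁
      c02 := hcomm _ hv _ hn₂
      c03 := hcomm _ hv _ hn₃
      c12 := hcomm _ hn₁ _ hn₂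
      c13 := hcomm _ hn₁ _ hn₃
      c23 := hcomm _ hn₂ _ hn₃
      ax1 := hx1
      ax2 := by
        have h' : x * x * v * x = v * n₁ x v := by
          calc x * x * v * x = x * (x * v * x * x) * x⁻¹ := by group
            _ = v * n₁ x v := by
              rw [show x * (x * v * x * x) = x * n₁ x v from rfl, hx1, mul_inv_cancel_right]
        calc x * n₂ x y v = (x * w) * (v * w) := by simp only [n₂, w, mul_assoc]
          _ = w * (x * x * v * x) * (x * x * w) := by
            rw [k5]; simp only [← mul_assoc]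
            rw [show w * x * x * v * x * x * x * w = w * x * x * v * (x * x * x) * w by
              simp only [mul_assoc], hxxx, mul_one]
          _ = w * (v * n₁ x v) * (w * x) := by rw [h', k6]
          _ = n₂ x y v * n₃ x y v * x := by
            calc _ = w * v * (w * w) * n₁ x v * w * x := by rw [k2]; simp only [mul_one, mul_assoc]
              _ = _ := by simp only [n₂, n₃, w, mul_assoc]
      ax3 := by
        calc x * n₃ x y v = (x * w) * n₁ x v * w := by simp only [n₃, w, mul_assoc]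
          _ = w * (x * x * x) * v * (x * x * w) := by rw [k5]; simp only [n₁, mul_assoc]
          _ = w * v * (w * x) := by rw [hxxx, mul_one, k6]
          _ = _ := by simp only [n₂, w, mul_assoc]
      au0 := huv
      au1 := hu1
      au2 := huw3 v hv huv
      au3 := huw3 _ hn₁ hu1 }
  have htop : closure {x, y, v} = ⊤ := by
    by_contra hne
    refine hcrit _ hne (Set.Subset.antisymm ?_ ?_)
    · rintro _ ⟨g, rfl⟩
      rw [← Subgroup.orderOf_coe]
      exact hord g
    · have hxc : x ∈ closure {x, y, v} := subset_closure (by simp)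
      have hyc : y ∈ closure {x, y, v} := subset_closure (by simp)
      have hvc : v ∈ closure {x, y, v} := subset_closure (by simp)
      have key : ∀ g ∈ closure {x, y, v}, orderOf g ∈
          Set.range (orderOf : closure {x, y, v} → ℕ) := fun g hg =>
        ⟨⟨g, hg⟩, Subgroup.orderOf_mk g hg⟩
      intro k hk
      simp only [Set.mem_insert_iff, Set.mem_singleton_iff] at hk
      rcases hk with rfl | rfl | rfl | rfl | rfl
      · exact orderOf_one (G := G) ▸ key 1 (one_mem _)
      · exact (orderOf_eq_prime (hN.2 v hv) hv1) ▸ key v hvc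
      · exact hx3 ▸ key x hxc
      · have hwc' : w ∈ closure {x, y, v} := by
          simp only [w, ww]
          repeat' first | exact hxc | exact hyc | refine mul_mem ?_ ?_
        have huc : u ∈ closure {x, y, v} := by
          simp only [u, wu]
          repeat' first | exact hxc | exact hyc | refine mul_mem ?_ ?_
        have hg2 : (u * (w * v * w)) ^ 2 = v := by
          calc (u * (w * v * w)) ^ 2 = (u * (w * v * w)) * u * (w * v * w) := by
                rw [pow_two]; simp only [mul_assoc]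
            _ = v * (w * v * w) * (u * u) * (w * v * w) := by
              rw [huw3 v hv huv]; simp only [mul_assoc]
            _ = v := by rw [k1, mul_one, mul_assoc, hsq _ (hwc v hv), mul_one]
        have h4 : orderOf (u * (w * v * w)) = 4 := by
          refine orderOf_eq_prime_pow (p := 2) (n := 1) (by rw [pow_one, hg2]; exact hv1) ?_
          rw [show (2 : ℕ) ^ (1 + 1) = 2 * 2 from rfl, pow_mul, hg2, pow_two, hsq v hv]
        exact h4 ▸ key _ (mul_mem huc (mul_mem (mul_mem hwc' hvc) hwc'))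
      · exact hy5 ▸ key y hyc
  refine ⟨x, y, v, hR, htop, ?_⟩
  rw [← hR.card_closure (fun e => nx (by rw [← hx, e, map_one])) hv1, htop, Subgroup.card_top]

end CfsgLib.CriticalFive
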