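import Cfsg.Agent.CriticalFive.Relations

/-!
# The order of a group satisfying `Rels`, and uniqueness
-/

set_option autoImplicit false
set_option linter.style.haveILetI false
set_option linter.unusedSectionVars false

namespace CfsgLib.CriticalFive

open Subgroup
open scoped Pointwise

variable {P : Type*} [Group P] [Finite P] {x y v : P}

theorem zpowers_le_pair {a : P} (ha : a * a = 1) {g : P} (hg : g ∈ zpowers a) : g = 1 ∨ g = a := by
  obtain ⟨n, rfl⟩ := mem_zpowers_iff.1 hg
  have h2 : a ^ (2 : ℤ) = 1 := by rw [zpow_two, ha]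
  rcases Int.emod_two_eq_zero_or_one n with h | h <;>
    rw [← Int.emod_add_mul_ediv n 2, h, zpow_add, zpow_mul, h2, one_zpow, mul_one] <;> simp

theorem card_zpowers_le_two {a : P} (ha : a * a = 1) : Nat.card (zpowers a) ≤ 2 := by
  rw [Nat.card_zpowers]
  exact Nat.le_of_dvd two_pos (orderOf_dvd_of_pow_eq_one (by rw [pow_two, ha]))

theorem comm_of_mem {W : Subgroup P} (hW : IsMulCommutative W) {a b : P} (ha : a ∈ W) (hb : b ∈ W) :
    a * b = b * a :=
  congrArg Subtype.val (hW.is_comm.comm (⟨a, ha⟩ : W) ⟨b, hb⟩)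

theorem le_normalizer_of_comm {W A B : Subgroup P} (hW : IsMulCommutative W) (hA : A ≤ W)
    (hB : B ≤ W) : B ≤ normalizer (A : Set P) := by
  intro b hb
  rw [mem_normalizer_iff]
  intro a
  constructor
  · intro ha
    rw [comm_of_mem hW (hB hb) (hA ha), mul_inv_cancel_right]
    exact ha
  · intro ha
    have h1 := comm_of_mem hW (hA ha) (hB hb)
    have h2 : a = b * a * b⁻¹ := by
      calc a = b⁻¹ * (b * a * b⁻¹ * b) := by group
        _ = b⁻¹ * (b * (b * a * b⁻¹)) := by rw [h1]
        _ = b * a * b⁻¹ := by group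
    rw [h2]
    exact ha

namespace Rels

theorem span_le (h : Rels x y v) :
    span x y v ≤ (zpowers v ⊔ zpowers (n₁ x v)) ⊔ (zpowers (n₂ x y v) ⊔ zpowers (n₃ x y v)) := by
  refine (closure_le _).2 ?_
  rintro g (rfl | rfl | rfl | rfl)
  · exact mem_sup_left (mem_sup_left (mem_zpowers _))
  · exact mem_sup_left (mem_sup_right (mem_zpowers _))
  · exact mem_sup_right (mem_sup_left (mem_zpowers _))
  · exact mem_sup_right (mem_sup_right (mem_zpowers _))

theorem le_span_left : zpowers v ⊔ zpowers (n₁ x v) ≤ span x y v :=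
  sup_le (zpowers_le.2 mem_span.1) (zpowers_le.2 mem_span.2.1)

theorem le_span_right : zpowers (n₂ x y v) ⊔ zpowers (n₃ x y v) ≤ span x y v :=
  sup_le (zpowers_le.2 mem_span.2.2.1) (zpowers_le.2 mem_span.2.2.2)

theorem card_span_le (h : Rels x y v) : Nat.card (span x y v) ≤ 16 := by
  have hc := h.span_commutative
  have h1 := card_sup_le (le_normalizer_of_comm hc (zpowers_le.2 mem_span.1)
    (zpowers_le.2 (mem_span (x := x) (y := y) (v := v)).2.1))
  have h2 := card_sup_le (le_normalizer_of_comm hc (zpowers_le.2 (mem_span (x := x) (y := y) (v := v)).2.2.1)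
    (zpowers_le.2 mem_span.2.2.2))
  have h3 := card_sup_le (le_normalizer_of_comm hc (le_span_left (x := x) (y := y) (v := v))
    le_span_right)
  have h4 := card_zpowers_le_two h.sq
  have h5 := card_zpowers_le_two h.sq₁
  have h6 := card_zpowers_le_two h.sq₂
  have h7 := card_zpowers_le_two h.sq₃
  calc Nat.card (span x y v) ≤ _ := Subgroup.card_le_of_le h.span_le
    _ ≤ _ := h3
    _ ≤ (2 * 2) * (2 * 2) := Nat.mul_le_mul (h1.trans (Nat.mul_le_mul h4 h5))
        (h2.trans (Nat.mul_le_mul h6 h7))
    _ = 16 := rfl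

theorem card_top235_le (h : Rels x y v) : Nat.card (top235 x y) ≤ 60 := by
  refine (TwoThreeFive.finite_card_le (G := top235 x y) ⟨x, subset_closure (by simp)⟩
    ⟨y, subset_closure (by simp)⟩ (Subtype.ext h.hx) (Subtype.ext h.hy) (Subtype.ext h.hxy) ?_).2
  refine eq_top_iff.2 ?_
  refine (Subgroup.closure_closure_coe_preimage (k := ({x, y} : Set P))).ge.trans ?_
  refine closure_mono ?_
  rintro ⟨g, hg⟩ hg'
  simp only [Set.mem_preimage, Set.mem_insert_iff, Set.mem_singleton_iff] at hg' ⊢
  rcases hg' with e | e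
  exacts [Or.inl (Subtype.ext e), Or.inr (Subtype.ext e)]

theorem closure_eq (h : Rels x y v) : closure {x, y, v} = span x y v ⊔ top235 x y := by
  have hx : x ∈ closure {x, y, v} := subset_closure (by simp)
  have hy : y ∈ closure {x, y, v} := subset_closure (by simp)
  have hv : v ∈ closure {x, y, v} := subset_closure (by simp)
  refine le_antisymm ((closure_le _).2 ?_) (sup_le ((closure_le _).2 ?_) ((closure_le _).2 ?_))
  · rintro g (rfl | rfl | rfl)
    · exact mem_sup_right (subset_closure (by simp))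
    · exact mem_sup_right (subset_closure (by simp))
    · exact mem_sup_left mem_span.1
  · rintro g (rfl | rfl | rfl | rfl)
    · exact hv
    all_goals
      simp only [SetLike.mem_coe, n₁, n₂, n₃, ww]
      repeat' first | exact hx | exact hy | exact hv | refine mul_mem ?_ ?_
  · rintro g (rfl | rfl)
    · exact hx
    · exact hy

theorem card_closure_le (h : Rels x y v) : Nat.card (closure {x, y, v}) ≤ 960 := by
  rw [h.closure_eq]
  exact (card_sup_le h.top_le_normalizer).trans (Nat.mul_le_mul h.card_span_le h.card_top235_le)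

theorem exists_hom (h : Rels x y v) : ∃ φ : alternatingGroup (Fin 5) →* P, φ.range = top235 x y := by
  obtain ⟨e⟩ := TwoThreeFive.presented_equiv
  have hrel : ∀ r ∈ TwoThreeFive.rels, FreeGroup.lift ![x, y] r = 1 := by
    intro r hr
    simp only [TwoThreeFive.rels, Set.mem_insert_iff, Set.mem_singleton_iff] at hr
    rcases hr with rfl | rfl | rfl <;>
      simp only [map_pow, map_mul, FreeGroup.lift_apply_of, Matrix.cons_val_zero, Matrix.cons_val_one]
    exacts [h.hx, h.hy, h.hxy]
  refine ⟨(PresentedGroup.toGroup hrel).comp e.symm.toMonoidHom, ?_⟩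
  rw [MonoidHom.range_comp, MonoidHom.range_eq_top.2 (by exact e.symm.surjective),
    ← PresentedGroup.closure_range_of, MonoidHom.map_closure, top235]
  congr 1
  ext g
  simp [Fin.exists_fin_two, eq_comm]

theorem card_top235 (h : Rels x y v) (hx : x ≠ 1) :
    Nat.card (top235 x y) = 60 ∧ IsSimpleGroup (top235 x y) := by
  obtain ⟨φ, hφ⟩ := h.exists_hom
  have hinj : Function.Injective φ := by
    rw [← MonoidHom.ker_eq_bot_iff]
    refine (MonoidHom.normal_ker φ).eq_bot_or_eq_top.resolve_right fun e => hx ?_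
    have hx' : x ∈ φ.range := hφ ▸ subset_closure (by simp)
    obtain ⟨a, rfl⟩ := hx'
    exact φ.mem_ker.1 (e ▸ mem_top a)
  let e := (MonoidHom.ofInjective hinj).trans (MulEquiv.subgroupCongr hφ)
  refine ⟨?_, ?_⟩
  · rw [← Nat.card_congr e.toEquiv, nat_card_alternatingGroup]
    simp [Nat.factorial]
  · haveI : Nontrivial (top235 x y) := e.toEquiv.symm.nontrivial
    exact IsSimpleGroup.isSimpleGroup_of_surjective e.toMonoidHom e.surjective

theorem card_span (h : Rels x y v) (hv : v ≠ 1) : Nat.card (span x y v) = 16 := by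
  refine le_antisymm h.card_span_le ?_
  have hc := h.span_commutative
  set b := n₁ x v
  set c := n₂ x y v
  set d := n₃ x y v
  set w := ww x y
  set u := wu x y
  have hb : b ≠ 1 := by
    intro e
    refine hv ?_
    have h1 := h.ax1
    rw [show n₁ x v = b from rfl, e, mul_one, mul_one] at h1
    exact mul_eq_right.1 h1.symm
  have hab : v ≠ b := by
    intro e
    refine hb ?_
    have h1 := h.ax1
    rw [show n₁ x v = b from rfl, ← e, h.sq, one_mul] at h1
    rw [← e]
    exact mul_eq_left.1 h1
  have hL : ∀ g ∈ zpowers v ⊔ zpowers b, g = 1 ∨ g = v ∨ g = b ∨ g = v * b := by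
    intro g hg
    rw [← SetLike.mem_coe, coe_mul_of_right_le_normalizer_left _ _ (le_normalizer_of_comm hc
      (zpowers_le.2 mem_span.1) (zpowers_le.2 (mem_span (x := x) (y := y) (v := v)).2.1))] at hg
    obtain ⟨p, hp, q, hq, rfl⟩ := Set.mem_mul.1 hg
    rcases zpowers_le_pair h.sq hp with rfl | rfl <;> rcases zpowers_le_pair h.sq₁ hq with rfl | rfl
    exacts [Or.inl (one_mul _), Or.inr (Or.inr (Or.inl (one_mul _))), Or.inr (Or.inl (mul_one _)), Or.inr (Or.inr (Or.inr rfl))]
  have hua : ∀ g ∈ zpowers v ⊔ zpowers b, u * g = g * u := by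
    intro g hg
    rcases hL g hg with rfl | rfl | rfl | rfl
    · simp
    · exact h.au0
    · exact h.au1
    · rw [← mul_assoc, h.au0, mul_assoc, h.au1, ← mul_assoc]
  have hdisj : (zpowers v ⊔ zpowers b) ⊓ (zpowers c ⊔ zpowers d) = ⊥ := by
    rw [eq_bot_iff]
    intro g hg
    obtain ⟨hg1, hg2⟩ := mem_inf.1 hg
    rw [← SetLike.mem_coe, coe_mul_of_right_le_normalizer_left _ _ (le_normalizer_of_comm hc
      (zpowers_le.2 (mem_span (x := x) (y := y) (v := v)).2.2.1) (zpowers_le.2 mem_span.2.2.2))] at hg2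
    obtain ⟨p, hp, q, hq, rfl⟩ := Set.mem_mul.1 hg2
    have hu := hua _ hg1
    rw [mem_bot]
    rcases zpowers_le_pair h.sq₂ hp with rfl | rfl <;> rcases zpowers_le_pair h.sq₃ hq with rfl | rfl
    · simp
    · rw [one_mul] at hu ⊢
      rw [h.au3, mul_left_inj, mul_eq_right] at hu
      exact absurd hu hb
    · rw [mul_one] at hu ⊢
      rw [h.au2, mul_left_inj, mul_eq_right] at hu
      exact absurd hu hv
    · exfalso
      have h1 : u * (c * d) = (v * b) * (c * d) * u := by
        calc u * (c * d) = v * c * u * d := by rw [← mul_assoc, h.au2]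
          _ = v * c * (b * d * u) := by rw [mul_assoc (v * c) u d, h.au3]
          _ = v * c * (b * d) * u := (mul_assoc _ _ _).symm
          _ = v * b * (c * d) * u := by rw [Commute.mul_mul_mul_comm h.c12 v d]
      rw [h1, mul_left_inj, mul_eq_right, mul_eq_one_iff_eq_inv, inv_eq_of_mul_eq_one_right h.sq₁] at hu
      exact hab hu
  have hcard : ∀ p q : P, p ≠ 1 → q ≠ 1 → p ≠ q → 4 ≤ Nat.card ↥(zpowers p ⊔ zpowers q) ∨ p * q ∈ ({1, p, q} : Set P) := by
    intro p q hp hq hpq
    by_cases hpq' : p * q ∈ ({1, p, q} : Set P)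
    · exact Or.inr hpq'
    left
    classical
    have hs : ({1, p, q, p * q} : Finset P) ⊆ (Set.toFinite (↑(zpowers p ⊔ zpowers q) : Set P)).toFinset := by
      intro g hg
      simp only [Finset.mem_insert, Finset.mem_singleton] at hg
      rw [Set.Finite.mem_toFinset, SetLike.mem_coe]
      rcases hg with rfl | rfl | rfl | rfl
      exacts [one_mem _, mem_sup_left (mem_zpowers _), mem_sup_right (mem_zpowers _),
        mul_mem_sup (mem_zpowers _) (mem_zpowers _)]
    have h4 : ({1, p, q, p * q} : Finset P).card = 4 := by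
      simp only [Set.mem_insert_iff, Set.mem_singleton_iff, not_or] at hpq'
      rw [Finset.card_insert_of_notMem, Finset.card_insert_of_notMem, Finset.card_insert_of_notMem,
        Finset.card_singleton] <;> simp [Ne.symm hp, Ne.symm hq, hpq, Ne.symm hpq'.1,
        Ne.symm hpq'.2.1, Ne.symm hpq'.2.2]
    have := Finset.card_le_card hs
    rw [h4, ← Set.ncard_eq_toFinset_card _ (Set.toFinite _), ← Nat.card_coe_set_eq] at this
    exact this
  have hne : ∀ p q : P, q * q = 1 → p ≠ 1 → q ≠ 1 → p ≠ q → p * q ∉ ({1, p, q} : Set P) := by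
    intro p q hq hp hq1 hpq
    simp only [Set.mem_insert_iff, Set.mem_singleton_iff, not_or]
    exact ⟨fun e => hpq (by rw [eq_inv_of_mul_eq_one_left e, inv_eq_of_mul_eq_one_right hq]),
      fun e => hq1 (mul_eq_left.1 e), fun e => hp (mul_eq_right.1 e)⟩
  have hw : ∀ g : P, w * g * w = 1 → g = 1 := by
    intro g e
    calc g = (w * w) * g * (w * w) := by rw [h.hw, one_mul, mul_one]
      _ = w * (w * g * w) * w := by simp only [mul_assoc]
      _ = 1 := by rw [e, mul_one, h.hw]
  have hc1 : c ≠ 1 := fun e => hv (hw _ e)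
  have hd1 : d ≠ 1 := fun e => hb (hw _ e)
  have hcd : c ≠ d := by
    intro e
    refine hab ?_
    have e' : w * v * w = w * b * w := e
    exact mul_left_cancel (mul_right_cancel e')
  have hL4 := (hcard v b hv hb hab).resolve_right (hne v b h.sq₁ hv hb hab)
  have hR4 := (hcard c d hc1 hd1 hcd).resolve_right (hne c d h.sq₃ hc1 hd1 hcd)
  have hle : (zpowers v ⊔ zpowers b) ⊔ (zpowers c ⊔ zpowers d) ≤ span x y v :=
    sup_le le_span_left le_span_right
  refine le_trans ?_ (Subgroup.card_le_of_le hle)
  have h16 : Nat.card ↥(zpowers v ⊔ zpowers b) * Nat.card ↥(zpowers c ⊔ zpowers d) ≤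
      Nat.card ↥((zpowers v ⊔ zpowers b) ⊔ (zpowers c ⊔ zpowers d)) := by
    rw [← Nat.card_prod]
    refine Nat.card_le_card_of_injective (fun p => ⟨p.1 * p.2, mul_mem_sup p.1.2 p.2.2⟩) ?_
    intro p q e
    exact mul_injective_of_disjoint (disjoint_iff.2 hdisj) (congrArg Subtype.val e)
  exact le_trans (Nat.mul_le_mul hL4 hR4) h16

theorem card_closure (h : Rels x y v) (hx : x ≠ 1) (hv : v ≠ 1) :
    Nat.card (closure {x, y, v}) = 960 := by
  refine le_antisymm h.card_closure_le ?_
  obtain ⟨h60, hs⟩ := h.card_top235 hx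
  haveI := hs
  haveI : ((span x y v).subgroupOf (top235 x y)).Normal :=
    normal_subgroupOf_of_le_normalizer h.top_le_normalizer
  have hd : Disjoint (span x y v) (top235 x y) := by
    rcases (inferInstance : ((span x y v).subgroupOf (top235 x y)).Normal).eq_bot_or_eq_top with e | e
    · exact subgroupOf_eq_bot.1 e
    · exfalso
      have hle : top235 x y ≤ span x y v := subgroupOf_eq_top.1 e
      have := Subgroup.card_le_of_le hle
      rw [h60] at this
      exact absurd (this.trans h.card_span_le) (by norm_num)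
  rw [h.closure_eq, show 960 = Nat.card (span x y v) * Nat.card (top235 x y) by
    rw [h.card_span hv, h60], ← Nat.card_prod]
  exact Nat.card_le_card_of_injective (fun p => ⟨p.1 * p.2, mul_mem_sup p.1.2 p.2.2⟩)
    fun p q e => mul_injective_of_disjoint hd (congrArg Subtype.val e)

end Rels

/-- Two groups of order `960` generated by elements satisfying `Rels` are isomorphic. -/
theorem nonempty_mulEquiv {A B : Type*} [Group A] [Group B] [Finite A] [Finite B] {x y v : A}
    {x' y' v' : B} (h : Rels x y v) (h' : Rels x' y' v') (hA : closure {x, y, v} = ⊤)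
    (hA' : Nat.card A = 960) (hB : closure {x', y', v'} = ⊤) (hB' : Nat.card B = 960) :
    Nonempty (A ≃* B) := by
  set H : Subgroup (A × B) := closure {((x, x') : A × B), (y, y'), (v, v')}
  have hH : Nat.card H ≤ 960 := (h.prod h').card_closure_le
  have h1 : Function.Surjective ((MonoidHom.fst A B).comp H.subtype) := by
    rw [← MonoidHom.range_eq_top, MonoidHom.range_comp, range_subtype, MonoidHom.map_closure,
      ← hA]
    congr 1
    simp [Set.image_insert_eq]
  have h2 : Function.Surjective ((MonoidHom.snd A B).comp H.subtype) := by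
    rw [← MonoidHom.range_eq_top, MonoidHom.range_comp, range_subtype, MonoidHom.map_closure,
      ← hB]
    congr 1
    simp [Set.image_insert_eq]
  refine ⟨(MulEquiv.ofBijective _ ((Nat.bijective_iff_surjective_and_card _).2 ⟨h1, ?_⟩)).symm.trans
    (MulEquiv.ofBijective _ ((Nat.bijective_iff_surjective_and_card _).2 ⟨h2, ?_⟩))⟩
  · exact le_antisymm (hH.trans hA'.ge) (Nat.card_le_card_of_surjective _ h1)
  · exact le_antisymm (hH.trans hB'.ge) (Nat.card_le_card_of_surjective _ h2)

end CfsgLib.CriticalFive
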