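import Cfsg.Agent.TwoThreeFive.Basic

/-!
# Relations for the affine group `F² ⋊ SL(2, F)`, `#F = 4`

A group generated by `x, y, v` subject to the `(2,3,5)` relations for `x, y`, and the relations
saying that the four conjugates `m₀, …, m₃` of `v` span a natural module of `SL(2,4)`, has order
`960` as soon as `x ≠ 1` and `v ≠ 1`; two such groups are isomorphic.
-/

set_option autoImplicit false
set_option linter.style.haveILetI false
set_option linter.unusedSectionVars false

namespace CfsgLib.CriticalFive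

open Subgroup
open scoped Pointwise

section Words

variable {P : Type*} [Group P]

/-- An involution `u` as a word in `x`, `y`. -/
abbrev wu (x y : P) : P := x * y * x * x * y * y
/-- An involution `w` inverting `x`. -/
abbrev ww (x y : P) : P := x * y * y * x * x * y * y * x * x * y
/-- An element of order 3 inverted by `x y`. -/
abbrev wc (x y : P) : P := y * x * x * y * y * x * x
/-- `x v x⁻¹`. -/
abbrev n₁ (x v : P) : P := x * v * x * x
/-- `w v w⁻¹`. -/
abbrev n₂ (x y v : P) : P := ww x y * v * ww x y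
/-- `w x v x⁻¹ w⁻¹`. -/
abbrev n₃ (x y v : P) : P := ww x y * n₁ x v * ww x y

/-- The relations. -/
structure Rels (x y v : P) : Prop where
  hx : x ^ 3 = 1
  hy : y ^ 5 = 1
  hxy : (x * y) ^ 2 = 1
  hgen : y = wu x y * x * wu x y * ww x y * wu x y
  hw : ww x y * ww x y = 1
  sq : v * v = 1
  c01 : Commute v (n₁ x v)
  c02 : Commute v (n₂ x y v)
  c03 : Commute v (n₃ x y v)
  c12 : Commute (n₁ x v) (n₂ x y v)
  c13 : Commute (n₁ x v) (n₃ x y v)
  c23 : Commute (n₂ x y v) (n₃ x y v)
  ax1 : x * n₁ x v = v * n₁ x v * x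
  ax2 : x * n₂ x y v = n₂ x y v * n₃ x y v * x
  ax3 : x * n₃ x y v = n₂ x y v * x
  au0 : wu x y * v = v * wu x y
  au1 : wu x y * n₁ x v = n₁ x v * wu x y
  au2 : wu x y * n₂ x y v = v * n₂ x y v * wu x y
  au3 : wu x y * n₃ x y v = n₁ x v * n₃ x y v * wu x y

theorem Rels.prod {Q : Type*} [Group Q] {x y v : P} {x' y' v' : Q} (h : Rels x y v)
    (h' : Rels x' y' v') : Rels ((x, x') : P × Q) (y, y') (v, v') where
  hx := Prod.ext h.hx h'.hx
  hy := Prod.ext h.hy h'.hy
  hxy := Prod.ext h.hxy h'.hxy
  hgen := Prod.ext h.hgen h'.hgen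
  hw := Prod.ext h.hw h'.hw
  sq := Prod.ext h.sq h'.sq
  c01 := Prod.ext h.c01 h'.c01
  c02 := Prod.ext h.c02 h'.c02
  c03 := Prod.ext h.c03 h'.c03
  c12 := Prod.ext h.c12 h'.c12
  c13 := Prod.ext h.c13 h'.c13
  c23 := Prod.ext h.c23 h'.c23
  ax1 := Prod.ext h.ax1 h'.ax1
  ax2 := Prod.ext h.ax2 h'.ax2
  ax3 := Prod.ext h.ax3 h'.ax3
  au0 := Prod.ext h.au0 h'.au0
  au1 := Prod.ext h.au1 h'.au1
  au2 := Prod.ext h.au2 h'.au2
  au3 := Prod.ext h.au3 h'.au3

theorem Rels.of_injective {Q : Type*} [Group Q] {x y v : P} (f : P →* Q)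
    (hf : Function.Injective f) (h : Rels (f x) (f y) (f v)) : Rels x y v where
  hx := hf (by simpa only [map_mul, map_pow, map_one] using h.hx)
  hy := hf (by simpa only [map_mul, map_pow, map_one] using h.hy)
  hxy := hf (by simpa only [map_mul, map_pow, map_one] using h.hxy)
  hgen := hf (by simpa only [map_mul, map_pow, map_one] using h.hgen)
  hw := hf (by simpa only [map_mul, map_pow, map_one] using h.hw)
  sq := hf (by simpa only [map_mul, map_pow, map_one] using h.sq)
  c01 := hf (by simpa only [map_mul, map_pow, map_one] using h.c01.eq)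
  c02 := hf (by simpa only [map_mul, map_pow, map_one] using h.c02.eq)
  c03 := hf (by simpa only [map_mul, map_pow, map_one] using h.c03.eq)
  c12 := hf (by simpa only [map_mul, map_pow, map_one] using h.c12.eq)
  c13 := hf (by simpa only [map_mul, map_pow, map_one] using h.c13.eq)
  c23 := hf (by simpa only [map_mul, map_pow, map_one] using h.c23.eq)
  ax1 := hf (by simpa only [map_mul, map_pow, map_one] using h.ax1)
  ax2 := hf (by simpa only [map_mul, map_pow, map_one] using h.ax2)
  ax3 := hf (by simpa only [map_mul, map_pow, map_one] using h.ax3)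
  au0 := hf (by simpa only [map_mul, map_pow, map_one] using h.au0)
  au1 := hf (by simpa only [map_mul, map_pow, map_one] using h.au1)
  au2 := hf (by simpa only [map_mul, map_pow, map_one] using h.au2)
  au3 := hf (by simpa only [map_mul, map_pow, map_one] using h.au3)

end Words

section Order

variable {P : Type*} [Group P] [Finite P] {x y v : P}

theorem conj_eq_of_mul_eq {g a b : P} (h : g * a = b * g) : g * a * g⁻¹ = b := by
  rw [h, mul_inv_cancel_right]

theorem card_sup_le {A B : Subgroup P} (h : B ≤ normalizer (A : Set P)) :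
    Nat.card ↥(A ⊔ B) ≤ Nat.card A * Nat.card B := by
  have e : (↑(A ⊔ B) : Set P) = (A : Set P) * (B : Set P) :=
    coe_mul_of_right_le_normalizer_left A B h
  calc Nat.card ↥(A ⊔ B) = Nat.card ((↑(A ⊔ B) : Set P)) := rfl
    _ = Nat.card ((A : Set P) * (B : Set P) : Set P) := by rw [e]
    _ ≤ _ := Set.natCard_mul_le

theorem mem_normalizer_closure {S : Set P} {g : P} (h : ∀ s ∈ S, g * s * g⁻¹ ∈ closure S) :
    g ∈ normalizer (closure S : Set P) := by
  have h1 : (closure S).map (MulAut.conj g).toMonoidHom ≤ closure S := by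
    rw [MonoidHom.map_closure, closure_le]
    rintro _ ⟨s, hs, rfl⟩
    simpa using h s hs
  rw [mem_normalizer_iff_map_conj_eq]
  refine eq_of_le_of_card_ge h1 (le_of_eq ?_)
  rw [card_map_of_injective (MulEquiv.injective _)]

/-- The module spanned by the conjugates of `v`. -/
def span (x y v : P) : Subgroup P := closure {v, n₁ x v, n₂ x y v, n₃ x y v}

/-- The group of the `(2,3,5)` generators. -/
def top235 (x y : P) : Subgroup P := closure {x, y}

theorem mem_span {x y v : P} : v ∈ span x y v ∧ n₁ x v ∈ span x y v ∧ n₂ x y v ∈ span x y v ∧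
    n₃ x y v ∈ span x y v :=
  ⟨subset_closure (by simp), subset_closure (by simp), subset_closure (by simp),
    subset_closure (by simp)⟩

namespace Rels

theorem x_mul (h : Rels x y v) : x * x * x = 1 := by rw [← pow_three']; exact h.hx

theorem n₁_eq (h : Rels x y v) : x * v = n₁ x v * x := by
  rw [n₁, mul_assoc, mul_assoc, mul_assoc, ← mul_assoc x x x, h.x_mul, mul_one]

theorem sq₁ (h : Rels x y v) : n₁ x v * n₁ x v = 1 := by
  calc n₁ x v * n₁ x v = x * v * (x * x * x) * v * (x * x) := by simp only [n₁, mul_assoc]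
    _ = x * (v * v) * (x * x) := by rw [h.x_mul]; simp only [mul_one, mul_assoc]
    _ = 1 := by rw [h.sq, mul_one, ← mul_assoc, h.x_mul]

theorem sq₂ (h : Rels x y v) : n₂ x y v * n₂ x y v = 1 := by
  calc n₂ x y v * n₂ x y v = ww x y * v * (ww x y * ww x y) * v * ww x y := by
        simp only [n₂, mul_assoc]
    _ = ww x y * (v * v) * ww x y := by rw [h.hw]; simp only [mul_one, mul_assoc]
    _ = 1 := by rw [h.sq, mul_one, h.hw]

theorem sq₃ (h : Rels x y v) : n₃ x y v * n₃ x y v = 1 := by
  calc n₃ x y v * n₃ x y v = ww x y * n₁ x v * (ww x y * ww x y) * n₁ x v * ww x y := by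
        simp only [n₃, mul_assoc]
    _ = ww x y * (n₁ x v * n₁ x v) * ww x y := by rw [h.hw]; simp only [mul_one, mul_assoc]
    _ = 1 := by rw [h.sq₁, mul_one, h.hw]

theorem top_le_normalizer (h : Rels x y v) : top235 x y ≤ normalizer (span x y v : Set P) := by
  have hx : x ∈ normalizer (span x y v : Set P) := by
    refine mem_normalizer_closure ?_
    simp only [Set.mem_insert_iff, Set.mem_singleton_iff, forall_eq_or_imp, forall_eq]
    rw [conj_eq_of_mul_eq h.n₁_eq, conj_eq_of_mul_eq h.ax1, conj_eq_of_mul_eq h.ax2,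
      conj_eq_of_mul_eq h.ax3]
    exact ⟨mem_span.2.1, mul_mem mem_span.1 mem_span.2.1, mul_mem mem_span.2.2.1 mem_span.2.2.2,
      mem_span.2.2.1⟩
  have hu : wu x y ∈ normalizer (span x y v : Set P) := by
    refine mem_normalizer_closure ?_
    simp only [Set.mem_insert_iff, Set.mem_singleton_iff, forall_eq_or_imp, forall_eq]
    rw [conj_eq_of_mul_eq h.au0, conj_eq_of_mul_eq h.au1, conj_eq_of_mul_eq h.au2,
      conj_eq_of_mul_eq h.au3]
    exact ⟨mem_span.1, mem_span.2.1, mul_mem mem_span.1 mem_span.2.2.1,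
      mul_mem mem_span.2.1 mem_span.2.2.2⟩
  have hw : ww x y ∈ normalizer (span x y v : Set P) := by
    have hi : (ww x y)⁻¹ = ww x y := inv_eq_of_mul_eq_one_right h.hw
    refine mem_normalizer_closure ?_
    simp only [Set.mem_insert_iff, Set.mem_singleton_iff, forall_eq_or_imp, forall_eq, hi]
    refine ⟨mem_span.2.2.1, mem_span.2.2.2, ?_, ?_⟩
    · rw [show ww x y * n₂ x y v * ww x y = (ww x y * ww x y) * v * (ww x y * ww x y) by
        simp only [n₂, mul_assoc], h.hw, one_mul, mul_one]
      exact mem_span.1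
    · rw [show ww x y * n₃ x y v * ww x y = (ww x y * ww x y) * n₁ x v * (ww x y * ww x y) by
        simp only [n₃, mul_assoc], h.hw, one_mul, mul_one]
      exact mem_span.2.1
  refine (closure_le _).2 ?_
  rintro g (rfl | hg)
  · exact hx
  · rw [Set.mem_singleton_iff] at hg
    rw [hg]
    exact (congrArg (· ∈ normalizer (span x y v : Set P)) h.hgen).mpr
      (mul_mem (mul_mem (mul_mem (mul_mem hu hx) hu) hw) hu)

theorem span_commutative (h : Rels x y v) : IsMulCommutative (span x y v) := by
  refine Subgroup.isMulCommutative_closure fun a ha b hb => ?_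
  simp only [Set.mem_insert_iff, Set.mem_singleton_iff] at ha hb
  rcases ha with rfl | rfl | rfl | rfl <;> rcases hb with rfl | rfl | rfl | rfl
  all_goals first
    | rfl
    | exact h.c01.eq | exact h.c02.eq | exact h.c03.eq | exact h.c12.eq | exact h.c13.eq
    | exact h.c23.eq | exact h.c01.eq.symm | exact h.c02.eq.symm | exact h.c03.eq.symm
    | exact h.c12.eq.symm | exact h.c13.eq.symm | exact h.c23.eq.symm

end Rels

end Order

end CfsgLib.CriticalFive
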